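import Cfsg.Agent.Linear.Mitchell.Basic
import Cfsg.Agent.Linear.Mitchell.PlaneGroups

/-!
Two homologies in a group without transvections: they commute or span a plane group of order prime
to the characteristic.
-/

set_option autoImplicit false

namespace Cfsg.Agent.Linear.Mitchell

open scoped MatrixGroups Matrix
open Cfsg.Geo Matrix

variable {F : Type*} [Field F] {P : Subgroup (GL (Fin 3) F)}

local notation "M3" => Matrix (Fin 3) (Fin 3) F
local notation "V" => Fin 3 → F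

/-- `P` together with all scalars. -/
abbrev pz (P : Subgroup (GL (Fin 3) F)) : Subgroup (GL (Fin 3) F) := P ⊔ scalars (Fin 3) F

theorem mem_pz {x : GL (Fin 3) F} :
    x ∈ pz P ↔ ∃ g ∈ P, ∃ c : F, c ≠ 0 ∧ (x : M3) = c • (g : M3) := by
  rw [Subgroup.mem_sup_of_normal_right]
  constructor
  · rintro ⟨g, hg, s, hs, rfl⟩
    obtain ⟨c, hc⟩ := (mem_scalars_iff s).mp hs
    exact ⟨g, hg, c, c.ne_zero, by simp [hc]⟩
  · rintro ⟨g, hg, c, hc, hx⟩
    refine ⟨g, hg, g⁻¹ * x, (mem_scalars_iff _).mpr ⟨Units.mk0 c hc, ?_⟩, by group⟩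
    rw [Units.val_mul, hx, Units.val_mk0, mul_smul_comm, ← Units.val_mul, inv_mul_cancel, Units.val_one]

theorem mem_pz_of_mem {x : GL (Fin 3) F} (hx : x ∈ P) : x ∈ pz P := Subgroup.mem_sup_left hx

theorem no_tv [Finite F] (hS : Setting P) (hN : NoTransvection P) {x : GL (Fin 3) F} (hx : x ∈ pz P)
    {a φ : V} (hφ : φ ⬝ᵥ a = 0) (he : (x : M3) = 1 + vecMulVec a φ) : vecMulVec a φ = 0 := by
  obtain ⟨g, hg, c, hc, hxg⟩ := mem_pz.mp hx
  have hg' : (g : M3) = c⁻¹ • H95.tvMat a φ := by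
    rw [H95.tvMat, ← he, hxg, smul_smul, inv_mul_cancel₀ hc, one_smul]
  have := hS.inTv_of_scalar_mul hN hg hφ hg'
  rw [hg'] at this
  have h1 := smul_right_injective M3 (inv_ne_zero hc) this
  simpa [H95.tvMat] using h1

/-- Membership of a matrix in the matrices of `P` with scalars. -/
def InPz (P : Subgroup (GL (Fin 3) F)) (X : M3) : Prop := ∃ x ∈ pz P, (x : M3) = X

theorem InPz.mul {X Y : M3} (h : InPz P X) (h' : InPz P Y) : InPz P (X * Y) := by
  obtain ⟨x, hx, rfl⟩ := h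
  obtain ⟨y, hy, rfl⟩ := h'
  exact ⟨x * y, mul_mem hx hy, by simp⟩

theorem InPz.of_inv {X Y : M3} (h : InPz P X) (hXY : X * Y = 1) : InPz P Y := by
  obtain ⟨x, hx, rfl⟩ := h
  refine ⟨x⁻¹, inv_mem hx, ?_⟩
  calc ((x⁻¹ : GL (Fin 3) F) : M3) = ((x⁻¹ : GL (Fin 3) F) : M3) * ((x : M3) * Y) := by rw [hXY, mul_one]
    _ = Y := by simp [← mul_assoc]

theorem InPz.cj {X : M3} (h : InPz P X) {g : GL (Fin 3) F} (hg : g ∈ P) :
    InPz P (Aschbacher.cj g X) := by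
  obtain ⟨x, hx, rfl⟩ := h
  exact ⟨g * x * g⁻¹, mul_mem (mul_mem (mem_pz_of_mem hg) hx) (inv_mem (mem_pz_of_mem hg)),
    (Aschbacher.cj_val g x).symm⟩

theorem InPz.eq_one_of_tv [Finite F] (hS : Setting P) (hN : NoTransvection P) {a φ : V}
    (h : InPz P (1 + vecMulVec a φ)) (hφ : φ ⬝ᵥ a = 0) : vecMulVec a φ = 0 := by
  obtain ⟨x, hx, he⟩ := h
  exact no_tv hS hN hx hφ he

/-- `E` is the projector of a homology of ratio `lam` in `P`. -/
def IsHom (P : Subgroup (GL (Fin 3) F)) (lam : F) (E : M3) : Prop :=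
  (∃ a φ : V, φ ⬝ᵥ a = 1 ∧ E = vecMulVec a φ) ∧ InPz P (1 + (lam - 1) • E)

theorem isHom_iff {lam : F} : HasHomology P lam ↔ ∃ E, IsHom P lam E := by
  constructor
  · rintro ⟨g, hg, c, a, φ, h1, he⟩
    have hc : c ≠ 0 := fun h => by
      have := Matrix.GeneralLinearGroup.det_ne_zero g
      rw [he, h, zero_smul, det_zero] at this
      · exact this rfl
    let s : GL (Fin 3) F := Units.map (Matrix.scalar (Fin 3) : F →+* M3).toMonoidHom (Units.mk0 c⁻¹ (inv_ne_zero hc))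
    refine ⟨_, ⟨a, φ, h1, rfl⟩, s * g, mul_mem (Subgroup.mem_sup_right ⟨_, rfl⟩) (mem_pz_of_mem hg), ?_⟩
    simp [s, he, ← Matrix.smul_one_eq_diagonal, smul_smul, ← mul_assoc, inv_mul_cancel₀ hc]
  · rintro ⟨E, ⟨a, φ, h1, rfl⟩, x, hx, he⟩
    obtain ⟨g, hg, c, hc, hxg⟩ := mem_pz.mp hx
    refine ⟨g, hg, c⁻¹, a, φ, h1, ?_⟩
    rw [← he, hxg, smul_smul, inv_mul_cancel₀ hc, one_smul]

theorem idem {E : M3} (h : ∃ a φ : V, φ ⬝ᵥ a = 1 ∧ E = vecMulVec a φ) : E * E = E := by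
  obtain ⟨a, φ, h1, rfl⟩ := h
  rw [vecMulVec_mul_vecMulVec, h1, one_smul]

theorem hom_mul {E : M3} (hE : E * E = E) (s t : F) :
    (1 + s • E) * (1 + t • E) = 1 + (s + t + s * t) • E := by
  simp only [mul_add, add_mul, one_mul, mul_one, smul_mul_smul_comm, hE, add_smul]
  abel

theorem not_scalar {a φ : V} (h1 : φ ⬝ᵥ a = 1) (c : F) : vecMulVec a φ ≠ c • (1 : M3) := by
  intro h
  have hd := congrArg Matrix.det h
  rw [det_vecMulVec, det_smul, det_one, mul_one, Fintype.card_fin] at hd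
  have hc : c = 0 := pow_eq_zero_iff (by norm_num : (3 : ℕ) ≠ 0) |>.mp hd.symm
  have := congrArg Matrix.trace h
  rw [hc, zero_smul, trace_zero, trace_vecMulVec, dotProduct_comm, h1] at this
  exact one_ne_zero this

namespace IsHom

variable {lam : F} {E E' : Matrix (Fin 3) (Fin 3) F}

theorem cj (h : IsHom P lam E) {g : GL (Fin 3) F} (hg : g ∈ P) : IsHom P lam (Aschbacher.cj g E) := by
  obtain ⟨⟨a, φ, h1, rfl⟩, hX⟩ := h
  refine ⟨⟨(g : M3) *ᵥ a, φ ᵥ* ((g⁻¹ : GL (Fin 3) F) : M3), ?_, ?_⟩, ?_⟩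
  · rw [← dotProduct_mulVec, mulVec_mulVec, ← Units.val_mul, inv_mul_cancel, Units.val_one, one_mulVec, h1]
  · rw [Aschbacher.cj_apply, mul_vecMulVec, vecMulVec_mul]
  · simpa using hX.cj hg

theorem ne_zero (h : IsHom P lam E) : lam ≠ 0 := by
  obtain ⟨⟨a, φ, h1, rfl⟩, x, -, he⟩ := h
  intro h0
  have := congrArg Matrix.det he
  rw [h0, vecMulVec_eq Unit, ← Matrix.smul_mul, ← replicateCol_smul,
    det_one_add_replicateCol_mul_replicateRow] at this
  refine Matrix.GeneralLinearGroup.det_ne_zero x (this.trans ?_)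
  simp [dotProduct_smul, h1]

theorem inPz_inv (h : IsHom P lam E) : InPz P (1 + (lam⁻¹ - 1) • E) := by
  refine h.2.of_inv ?_
  have h0 := h.ne_zero
  rw [hom_mul (idem h.1), show (lam - 1) + (lam⁻¹ - 1) + (lam - 1) * (lam⁻¹ - 1) = 0 by field_simp; ring,
    zero_smul, add_zero]

theorem inv (h : IsHom P lam E) : IsHom P lam⁻¹ E := ⟨h.1, h.inPz_inv⟩

theorem pow (h : IsHom P lam E) (k : ℕ) : InPz P (1 + (lam ^ k - 1) • E) := by
  induction k with
  | zero => exact ⟨1, one_mem _, by simp⟩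
  | succ k ih =>
    convert ih.mul h.2 using 1
    rw [hom_mul (idem h.1), pow_succ]
    congr 2
    ring

/-- Two homologies: equal, orthogonal, or spanning a plane off both axes. -/
theorem pair [Finite F] (hS : Setting P) (hN : NoTransvection P) (hl : lam ^ 2 ≠ 1)
    (h : IsHom P lam E) (h' : IsHom P lam E') :
    E = E' ∨ (E * E' = 0 ∧ E' * E = 0) ∨
      ∃ a φ b ψ : V, φ ⬝ᵥ a = 1 ∧ ψ ⬝ᵥ b = 1 ∧ E = vecMulVec a φ ∧ E' = vecMulVec b ψ ∧
        φ ⬝ᵥ b ≠ 0 ∧ ψ ⬝ᵥ a ≠ 0 ∧ (φ ⬝ᵥ b) * (ψ ⬝ᵥ a) ≠ 1 := by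
  obtain ⟨⟨a, φ, ha, rfl⟩, hX⟩ := id h
  obtain ⟨⟨b, ψ, hb, rfl⟩, hY⟩ := id h'
  have hl0 := h.ne_zero
  have hl1 : lam - 1 ≠ 0 := fun e => hl (by rw [sub_eq_zero.mp e, one_pow])
  have hinv1 : (lam - 1) + (lam⁻¹ - 1) + (lam - 1) * (lam⁻¹ - 1) = 0 := by field_simp; ring
  -- one zero product forces the other
  have one_sided : ∀ {a φ b ψ : V}, φ ⬝ᵥ a = 1 → ψ ⬝ᵥ b = 1 → φ ⬝ᵥ b = 0 →
      InPz P (1 + (lam - 1) • vecMulVec a φ) → InPz P (1 + (lam⁻¹ - 1) • vecMulVec a φ) →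
      InPz P (1 + (lam - 1) • vecMulVec b ψ) → InPz P (1 + (lam⁻¹ - 1) • vecMulVec b ψ) →
      ψ ⬝ᵥ a = 0 := by
    intro a φ b ψ ha hb hz hX hX' hY hY'
    by_contra hne
    have key := (((hY.mul hX).mul hY').mul hX')
    set s := (lam - 1) * ((lam - 1) * (ψ ⬝ᵥ a)) * lam⁻¹ with hs
    have e : (1 + (lam - 1) • vecMulVec b ψ) * (1 + (lam - 1) • vecMulVec a φ) *
        (1 + (lam⁻¹ - 1) • vecMulVec b ψ) * (1 + (lam⁻¹ - 1) • vecMulVec a φ) =
        1 + vecMulVec b (s • φ) := by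
      simp only [hs, vecMulVec_smul, mul_add, add_mul, one_mul, mul_one, smul_mul_assoc, mul_smul_comm,
        vecMulVec_mul_vecMulVec, smul_add, smul_smul, hz, ha, hb, zero_smul, smul_zero, vecMulVec_zero,
        add_zero, one_smul]
      match_scalars <;> field_simp <;> ring
    rw [e] at key
    have h0 := key.eq_one_of_tv hS hN (by simp [smul_dotProduct, hz])
    have h1 := congrArg (fun M : M3 => ψ ⬝ᵥ (M *ᵥ a)) h0
    simp [vecMulVec_mulVec, smul_dotProduct, dotProduct_smul, smul_mulVec, ha, hb, hs, hl0, hl1, hne] at h1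
  by_cases hx : φ ⬝ᵥ b = 0
  · refine Or.inr (Or.inl ?_)
    have hy := one_sided ha hb hx hX h.inPz_inv hY h'.inPz_inv
    simp [vecMulVec_mul_vecMulVec, hx, hy]
  by_cases hy : ψ ⬝ᵥ a = 0
  · exact absurd (one_sided hb ha hy hY h'.inPz_inv hX h.inPz_inv) hx
  by_cases hc : (φ ⬝ᵥ b) * (ψ ⬝ᵥ a) = 1
  swap
  · exact Or.inr (Or.inr ⟨a, φ, b, ψ, ha, hb, rfl, rfl, hx, hy, hc⟩)
  left
  set d : V := (φ ⬝ᵥ b)⁻¹ • b - a with hd
  set θ : V := (φ ⬝ᵥ b) • ψ - φ with hθ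
  have hφd : φ ⬝ᵥ d = 0 := by simp [hd, ha, hx]
  have hθa : θ ⬝ᵥ a = 0 := by simp [hθ, ha, hc]
  have hθd : θ ⬝ᵥ d = 0 := by
    simp [hd, hθ, ha, hb, hx]
    linear_combination -hc
  have hE' : vecMulVec b ψ = vecMulVec a φ + vecMulVec a θ + vecMulVec d φ + vecMulVec d θ := by
    simp only [hd, hθ, sub_vecMulVec, vecMulVec_sub, smul_vecMulVec, vecMulVec_smul, smul_sub, smul_smul,
      mul_inv_cancel₀ hx, one_smul]
    abel
  have hu : InPz P (1 + ((lam - 1) • vecMulVec a θ + ((lam - 1) * lam⁻¹) • vecMulVec d φ +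
      (lam - 1) • vecMulVec d θ)) := by
    convert hY.mul h.inPz_inv using 1
    rw [hE']
    simp only [mul_add, add_mul, one_mul, mul_one, smul_mul_assoc, mul_smul_comm, smul_add, smul_smul,
      vecMulVec_mul_vecMulVec, ha, hθa, zero_smul, smul_zero, vecMulVec_zero, add_zero, one_smul]
    match_scalars <;> field_simp <;> ring
  have hu' := ((hX.mul hu).mul h.inPz_inv)
  set N : M3 := (lam - 1) • vecMulVec a θ + ((lam - 1) * lam⁻¹) • vecMulVec d φ +
      (lam - 1) • vecMulVec d θ with hNdef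
  set N' : M3 := ((lam - 1) * lam) • vecMulVec a θ + ((lam - 1) * lam⁻¹ * lam⁻¹) • vecMulVec d φ +
      (lam - 1) • vecMulVec d θ with hN'def
  have eN' : (1 + (lam - 1) • vecMulVec a φ) * (1 + N) * (1 + (lam⁻¹ - 1) • vecMulVec a φ) = 1 + N' := by
    simp only [hNdef, hN'def, mul_add, add_mul, one_mul, mul_one, smul_mul_assoc, mul_smul_comm, smul_add,
      smul_smul, vecMulVec_mul_vecMulVec, ha, hθa, hθd, hφd, zero_smul, smul_zero, vecMulVec_zero,
      add_zero, one_smul]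
    match_scalars <;> field_simp <;> ring
  rw [eN'] at hu'
  -- commutator
  obtain ⟨x, hx', ex⟩ := id hu
  obtain ⟨y, hy', ey⟩ := id hu'
  have hcm : InPz P (1 + vecMulVec d (((lam - 1) ^ 2 * (1 - lam⁻¹ ^ 2)) • θ)) := by
    refine ⟨x * y * x⁻¹ * y⁻¹, mul_mem (mul_mem (mul_mem hx' hy') (inv_mem hx')) (inv_mem hy'), ?_⟩
    have hxy : (x : M3) * (y : M3) = (1 + vecMulVec d (((lam - 1) ^ 2 * (1 - lam⁻¹ ^ 2)) • θ)) * ((y : M3) * (x : M3)) := by
      rw [ex, ey, hNdef, hN'def]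
      simp only [vecMulVec_smul, mul_add, add_mul, one_mul, mul_one, smul_mul_assoc, mul_smul_comm,
        smul_add, smul_smul, vecMulVec_mul_vecMulVec, ha, hθa, hθd, hφd, zero_smul, smul_zero,
        vecMulVec_zero, add_zero, one_smul, mul_zero, zero_add]
      match_scalars <;> field_simp <;> ring
    simp only [Units.val_mul]
    rw [hxy]
    simp [mul_assoc]
  have h0 := hcm.eq_one_of_tv hS hN (by simp [hθd])
  have hcoef : (lam - 1) ^ 2 * (1 - lam⁻¹ ^ 2) ≠ 0 := by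
    refine mul_ne_zero (pow_ne_zero 2 hl1) (sub_ne_zero.mpr fun e => hl ?_)
    rw [inv_pow] at e
    exact inv_eq_one.mp e.symm
  rw [vecMulVec_smul, smul_eq_zero, or_iff_right hcoef] at h0
  -- so d = 0 or θ = 0
  have hzero : vecMulVec a θ = 0 ∧ vecMulVec d φ = 0 := by
    by_cases hd0 : d = 0
    · refine ⟨?_, by simp [hd0]⟩
      have e : N = vecMulVec a ((lam - 1) • θ) := by simp [hNdef, hd0, vecMulVec_smul]
      rw [e] at hu
      have := hu.eq_one_of_tv hS hN (by simp [hθa])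
      rwa [vecMulVec_smul, smul_eq_zero, or_iff_right hl1] at this
    · have hθ0 : θ = 0 := by
        obtain ⟨i, hi⟩ := Function.ne_iff.mp hd0
        funext j
        have := congrFun (congrFun h0 i) j
        simp [vecMulVec_apply] at this
        exact this.resolve_left hi
      refine ⟨by simp [hθ0], ?_⟩
      have e : N = vecMulVec d (((lam - 1) * lam⁻¹) • φ) := by simp [hNdef, hθ0, vecMulVec_smul]
      rw [e] at hu
      have := hu.eq_one_of_tv hS hN (by simp [hφd])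
      rwa [vecMulVec_smul, smul_eq_zero, or_iff_right (mul_ne_zero hl1 (inv_ne_zero hl0))] at this
  rw [hE', hzero.1, hzero.2, h0]
  simp

end IsHom

end Cfsg.Agent.Linear.Mitchell
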